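import Groth.Prelude.Def_GrTwist
import Groth.Agent.PConeLib.Basic

/-!
Localizing a graded ring at an element of degree zero: the morphism of `Proj` is an open immersion
and the twisting sheaves pull back to twisting sheaves.
-/

set_option autoImplicit false
set_option backward.isDefEq.respectTransparency false
set_option backward.isDefEq.respectTransparency.types false

universe u

open CategoryTheory CategoryTheory.Limits AlgebraicGeometry TopologicalSpace Opposite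
open scoped HomogeneousIdeal

noncomputable section

namespace Groth.Agent.TwistAdj

variable {R A : Type u} [CommRing R] [CommRing A] [Algebra R A] {𝒜 : ℕ → Submodule R A}
  [GradedAlgebra 𝒜]

/-- The inverse image of a basic open of `Spec A₀`. -/
theorem toSpecZero_preimage_basicOpen {g : A} (hg : g ∈ 𝒜 0) :
    (Proj.toSpecZero 𝒜).base ⁻¹' (PrimeSpectrum.basicOpen (⟨g, hg⟩ : 𝒜 0) : Set (PrimeSpectrum (𝒜 0))) =
      (Proj.basicOpen 𝒜 g : Set (Proj 𝒜)) := by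
  ext x
  obtain ⟨d, f, hd, hf, hx⟩ := PConeLib.exists_homogeneous_not_mem (𝒜 := 𝒜) x
  rw [← Proj.opensRange_awayι 𝒜 f hf hd] at hx
  obtain ⟨p, rfl⟩ := hx
  have hgf : g * f ∈ 𝒜 d := by simpa using SetLike.mul_mem_graded hg hf
  have h1 : (Proj.toSpecZero 𝒜).base ((Proj.awayι 𝒜 f hf hd).base p) =
      (Spec.map (CommRingCat.ofHom (HomogeneousLocalization.fromZeroRingHom 𝒜 _))).base p := by
    rw [← Proj.awayι_toSpecZero 𝒜 f hf hd]; rfl
  have h2 := congrArg (fun o => p ∈ o) (Proj.awayι_preimage_basicOpen 𝒜 hf hd hgf hd)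
  have h3 : (Proj.awayι 𝒜 f hf hd).base p ∈ Proj.basicOpen 𝒜 f := by
    rw [← Proj.opensRange_awayι 𝒜 f hf hd]; exact ⟨p, rfl⟩
  have h4 : HomogeneousLocalization.Away.isLocalizationElem hf hgf =
      (HomogeneousLocalization.fromZeroRingHom 𝒜 (Submonoid.powers f) ⟨g, hg⟩) ^ d := by
    apply HomogeneousLocalization.val_injective
    rw [HomogeneousLocalization.val_pow, HomogeneousLocalization.Away.val_mk]
    show _ = (Localization.mk g 1 : Localization (Submonoid.powers f)) ^ d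
    rw [Localization.mk_pow, one_pow, Localization.mk_eq_mk_iff, Localization.r_iff_exists]
    exact ⟨1, by simp [mul_pow]; ring⟩
  have h5 : p ∈ PrimeSpectrum.basicOpen (HomogeneousLocalization.Away.isLocalizationElem hf hgf) ↔
      p ∈ PrimeSpectrum.basicOpen
        (HomogeneousLocalization.fromZeroRingHom 𝒜 (Submonoid.powers f) ⟨g, hg⟩) := by
    rw [h4, PrimeSpectrum.basicOpen_pow _ d hd]
  rw [Set.mem_preimage, SetLike.mem_coe, SetLike.mem_coe, h1]
  refine Iff.trans ?_ (h5.symm.trans (Iff.trans (Iff.of_eq h2.symm) ?_))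
  · exact Iff.rfl
  · show (Proj.awayι 𝒜 f hf hd).base p ∈ Proj.basicOpen 𝒜 (g * f) ↔ _
    rw [Proj.basicOpen_mul]
    exact ⟨fun h => h.1, fun h => ⟨h, h3⟩⟩

variable {B : Type u} [CommRing B] [Algebra R B] {ℬ : ℕ → Submodule R B}
  [GradedAlgebra ℬ] {ψ : 𝒜 →+*ᵍ ℬ}
  {hψ : HomogeneousIdeal.irrelevant ℬ ≤ (HomogeneousIdeal.irrelevant 𝒜).map ψ}

/-- `B` is the localization of `A` at `g` of degree zero, with the induced grading. -/
structure IsAway (ψ : 𝒜 →+*ᵍ ℬ) (g : A) : Prop where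
  mem : g ∈ 𝒜 0
  unit : IsUnit (ψ g)
  ker : ∀ c : A, ψ c = 0 → ∃ l : ℕ, g ^ l * c = 0
  lift : ∀ (n : ℕ) (b : B), b ∈ ℬ n → ∃ (k : ℕ) (a : A), a ∈ 𝒜 n ∧ ψ g ^ k * b = ψ a
  surj : ∀ (P : Ideal A), P.IsPrime → g ∉ P → ∃ Q : Ideal B, Q.IsPrime ∧ Ideal.map ψ.toRingHom P = Q ∧
    Q.comap ψ.toRingHom = P

theorem isAway_of_isLocalization {g : A} (hg : g ∈ 𝒜 0) [Algebra A B]
    (hψA : ∀ a : A, ψ a = algebraMap A B a) [IsLocalization.Away g B]
    (hdeg : ∀ (n : ℕ) (b : B), b ∈ ℬ n ↔ ∃ (k : ℕ) (a : A), a ∈ 𝒜 n ∧ ψ g ^ k * b = ψ a) :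
    IsAway ψ g := by
  have e : ψ.toRingHom = algebraMap A B := RingHom.ext hψA
  refine ⟨hg, hψA g ▸ IsLocalization.map_units B (⟨g, Submonoid.mem_powers g⟩ : Submonoid.powers g),
    fun c hc => ?_, fun n b hb => (hdeg n b).1 hb, fun P hP hgP => ?_⟩
  · rw [hψA, IsLocalization.map_eq_zero_iff (Submonoid.powers g) B] at hc
    obtain ⟨⟨_, l, rfl⟩, hl⟩ := hc
    exact ⟨l, hl⟩
  · have hdis : Disjoint (Submonoid.powers g : Set A) (P : Set A) := by
      rw [Set.disjoint_left]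
      rintro _ ⟨l, rfl⟩ h
      exact hgP (hP.mem_of_pow_mem l h)
    rw [e]
    exact ⟨_, IsLocalization.isPrime_of_isPrime_disjoint (Submonoid.powers g) B P hP hdis, rfl,
      IsLocalization.comap_map_of_isPrime_disjoint (Submonoid.powers g) B hP hdis⟩

variable {g : A} (H : IsAway ψ g)

include H

theorem not_mem (y : ProjectiveSpectrum ℬ) (k : ℕ) : ψ g ^ k ∉ y.asHomogeneousIdeal := fun h =>
  y.isPrime.ne_top (Ideal.eq_top_of_isUnit_mem _ h (H.unit.pow k))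

theorem exists_annihilator_away (y : ProjectiveSpectrum ℬ) {m : ℕ} {c : A} (hc : c ∈ 𝒜 m) {t : B}
    (ht : t ∉ y.asHomogeneousIdeal) (h : t * ψ c = 0) :
    ∃ t' : A, t' ∉ (ProjectiveSpectrum.comap ψ hψ y).asHomogeneousIdeal ∧ t' * c = 0 := by
  classical
  obtain ⟨i, hi⟩ : ∃ i, ((DirectSum.decompose ℬ t i : ℬ i) : B) ∉ y.asHomogeneousIdeal := by
    by_contra! hh
    refine ht ?_
    rw [← DirectSum.sum_support_decompose ℬ t]
    exact Ideal.sum_mem _ fun i _ => hh i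
  have h1 : ((DirectSum.decompose ℬ t i : ℬ i) : B) * ψ c = 0 := by
    have := DirectSum.coe_decompose_mul_add_of_right_mem ℬ (a := t) (i := i) (ψ.2 hc)
    refine this.symm.trans ?_
    erw [h]
    simp
  obtain ⟨k, t', ht', hψt'⟩ := H.lift i _ (DirectSum.decompose ℬ t i).2
  obtain ⟨l, hl⟩ := H.ker (t' * c) (by rw [map_mul, ← hψt', mul_assoc, h1, mul_zero])
  refine ⟨g ^ l * t', fun hmem => ?_, by rw [mul_assoc, hl]⟩
  have h2 : ψ (g ^ l * t') ∈ y.asHomogeneousIdeal := hmem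
  rw [map_mul, map_pow, ← hψt', ← mul_assoc, ← pow_add] at h2
  exact (y.isPrime.mem_or_mem h2).elim (not_mem H y _) hi

/-- Fractions with homogeneous difference and equal image are equal. -/
theorem eq_of_frac_away (y : ProjectiveSpectrum ℬ) {m : ℕ} {a a' s s' : A}
    (hn : s ∉ (ProjectiveSpectrum.comap ψ hψ y).asHomogeneousIdeal)
    (hn' : s' ∉ (ProjectiveSpectrum.comap ψ hψ y).asHomogeneousIdeal)
    (hm : s' * a - s * a' ∈ 𝒜 m)
    (h : GrTwist.locMap ψ hψ y (Localization.mk a ⟨s, hn⟩) =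
      GrTwist.locMap ψ hψ y (Localization.mk a' ⟨s', hn'⟩)) :
    (Localization.mk a ⟨s, hn⟩ : GrTwist.Loc 𝒜 (ProjectiveSpectrum.comap ψ hψ y)) =
      Localization.mk a' ⟨s', hn'⟩ := by
  rw [GrTwist.locMap_mk, GrTwist.locMap_mk, Localization.mk_eq_mk_iff, Localization.r_iff_exists] at h
  obtain ⟨t, ht⟩ := h
  obtain ⟨t', ht', hz⟩ := exists_annihilator_away H y hm t.2
    (by simpa [mul_sub, sub_eq_zero] using ht)
  rw [Localization.mk_eq_mk_iff, Localization.r_iff_exists]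
  exact ⟨⟨t', ht'⟩, by simpa [mul_sub, sub_eq_zero] using hz⟩

theorem exists_frac_away {i j : ℕ} {b u : B} (hb : b ∈ ℬ i) (hu : u ∈ ℬ j) :
    ∃ (a : 𝒜 i) (s : 𝒜 j) (k : ℕ), ψ a = ψ g ^ k * b ∧ ψ s = ψ g ^ k * u := by
  obtain ⟨k, a, ha, hk⟩ := H.lift i b hb
  obtain ⟨l, s, hs, hl⟩ := H.lift j u hu
  refine ⟨⟨g ^ l * a, ?_⟩, ⟨g ^ k * s, ?_⟩, k + l, ?_, ?_⟩
  · simpa using SetLike.mul_mem_graded (SetLike.pow_mem_graded l H.mem) ha
  · simpa using SetLike.mul_mem_graded (SetLike.pow_mem_graded k H.mem) hs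
  · show ψ (g ^ l * a) = _
    rw [map_mul, map_pow, ← hk]; ring
  · show ψ (g ^ k * s) = _
    rw [map_mul, map_pow, ← hl]; ring

theorem comap_injective : Function.Injective (ProjectiveSpectrum.comap ψ hψ) := by
  classical
  intro y y' hyy
  have key : ∀ (z z' : ProjectiveSpectrum ℬ), ProjectiveSpectrum.comap ψ hψ z =
      ProjectiveSpectrum.comap ψ hψ z' → z.asHomogeneousIdeal ≤ z'.asHomogeneousIdeal := by
    intro z z' hz t ht
    have ht' : t ∈ z.asHomogeneousIdeal := ht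
    show t ∈ z'.asHomogeneousIdeal
    rw [← DirectSum.sum_support_decompose ℬ t]
    refine Ideal.sum_mem _ fun i _ => ?_
    obtain ⟨k, a, -, hk⟩ := H.lift i _ (DirectSum.decompose ℬ t i).2
    have h1 : ψ a ∈ z.asHomogeneousIdeal := by
      rw [← hk]; exact Ideal.mul_mem_left _ _ (z.asHomogeneousIdeal.isHomogeneous i ht')
    have h2 : a ∈ (ProjectiveSpectrum.comap ψ hψ z).asHomogeneousIdeal := h1
    rw [hz] at h2
    have h3 : ψ a ∈ z'.asHomogeneousIdeal := h2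
    rw [← hk] at h3
    exact (z'.isPrime.mem_or_mem h3).resolve_left (not_mem H z' k)
  exact ProjectiveSpectrum.ext (le_antisymm (key y y' hyy) (key y' y hyy.symm))

theorem range_comap : Set.range (ProjectiveSpectrum.comap ψ hψ) =
    (ProjectiveSpectrum.basicOpen 𝒜 g : Set (ProjectiveSpectrum 𝒜)) := by
  ext x
  constructor
  · rintro ⟨y, rfl⟩ hmem
    exact not_mem H y 1 (by rw [pow_one]; exact hmem)
  · intro hx
    obtain ⟨Q, hQ, hmap, hcomap⟩ := H.surj _ x.isPrime hx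
    have htI : (HomogeneousIdeal.map ψ x.asHomogeneousIdeal).toIdeal = Q := hmap
    have hrel : ¬ HomogeneousIdeal.irrelevant ℬ ≤ HomogeneousIdeal.map ψ x.asHomogeneousIdeal := by
      intro hle
      obtain ⟨d, f, hd, hf, hxf⟩ := PConeLib.exists_homogeneous_not_mem (𝒜 := 𝒜) x
      have h1 : ψ f ∈ (HomogeneousIdeal.map ψ x.asHomogeneousIdeal).toIdeal :=
        hle (HomogeneousIdeal.mem_irrelevant_of_mem (𝒜 := ℬ) hd (ψ.2 hf))
      rw [htI] at h1
      have h2 : f ∈ Q.comap ψ.toRingHom := h1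
      rw [hcomap] at h2
      exact hxf h2
    refine ⟨⟨HomogeneousIdeal.map ψ x.asHomogeneousIdeal, htI ▸ hQ, hrel⟩, ?_⟩
    refine ProjectiveSpectrum.ext (HomogeneousIdeal.ext ?_)
    show Ideal.comap ψ.toRingHom (HomogeneousIdeal.map ψ x.asHomogeneousIdeal).toIdeal = _
    rw [htI, hcomap]

theorem isOpenEmbedding_comap : Topology.IsOpenEmbedding (ProjectiveSpectrum.comap ψ hψ) := by
  classical
  refine Topology.IsOpenEmbedding.of_continuous_injective_isOpenMap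
    (ProjectiveSpectrum.comap ψ hψ).continuous (comap_injective H) ?_
  intro V hV
  rw [isOpen_iff_forall_mem_open]
  rintro _ ⟨y, hy, rfl⟩
  obtain ⟨_, ⟨b, rfl⟩, hyb, hbV⟩ :=
    (ProjectiveSpectrum.isTopologicalBasis_basic_opens ℬ).exists_subset_of_mem_open hy hV
  obtain ⟨i, hi⟩ : ∃ i, ((DirectSum.decompose ℬ b i : ℬ i) : B) ∉ y.asHomogeneousIdeal := by
    by_contra! hh
    refine hyb ?_
    show b ∈ y.asHomogeneousIdeal
    rw [← DirectSum.sum_support_decompose ℬ b]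
    exact Ideal.sum_mem _ fun i _ => hh i
  obtain ⟨k, a, -, hk⟩ := H.lift i _ (DirectSum.decompose ℬ b i).2
  refine ⟨(ProjectiveSpectrum.basicOpen 𝒜 a ⊓ ProjectiveSpectrum.basicOpen 𝒜 g : Opens _), ?_,
    Opens.isOpen _, ⟨fun hmem => ?_, ?_⟩⟩
  · rintro x ⟨hxa, hxg⟩
    obtain ⟨z, rfl⟩ : x ∈ Set.range (ProjectiveSpectrum.comap ψ hψ) := by
      rw [range_comap H]; exact hxg
    refine ⟨z, hbV fun hzb => hxa ?_, rfl⟩
    show ψ a ∈ z.asHomogeneousIdeal
    rw [← hk]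
    exact Ideal.mul_mem_left _ _ (z.asHomogeneousIdeal.isHomogeneous i hzb)
  · have h1 : ψ a ∈ y.asHomogeneousIdeal := hmem
    rw [← hk] at h1
    exact (y.isPrime.mem_or_mem h1).elim (not_mem H y k) hi
  · exact fun hmem => not_mem H y 1 (by rw [pow_one]; exact hmem)

theorem bijective_localRingHom (y : ProjectiveSpectrum ℬ) :
    Function.Bijective (HomogeneousLocalization.localRingHom ψ
      (ProjectiveSpectrum.comap ψ hψ y).asHomogeneousIdeal.toIdeal y.asHomogeneousIdeal.toIdeal rfl) := by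
  constructor
  · intro c c' h
    obtain ⟨⟨i, ⟨a, ha⟩, ⟨s, hs⟩, hn⟩, rfl⟩ := c.mk_surjective
    obtain ⟨⟨i', ⟨a', ha'⟩, ⟨s', hs'⟩, hn'⟩, rfl⟩ := c'.mk_surjective
    have h1 := congrArg HomogeneousLocalization.val h
    rw [HomogeneousLocalization.val_localRingHom, HomogeneousLocalization.val_localRingHom,
      HomogeneousLocalization.val_mk, HomogeneousLocalization.val_mk] at h1
    refine HomogeneousLocalization.val_injective _ ?_
    rw [HomogeneousLocalization.val_mk, HomogeneousLocalization.val_mk]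
    refine eq_of_frac_away H y hn hn' (sub_mem (SetLike.mul_mem_graded hs' ha) ?_) h1
    rw [add_comm i' i]
    exact SetLike.mul_mem_graded hs ha'
  · intro c
    obtain ⟨⟨i, ⟨b, hb⟩, ⟨u, hu⟩, hn⟩, rfl⟩ := c.mk_surjective
    obtain ⟨a, s, k, hψa, hψs⟩ := exists_frac_away H hb hu
    have hs : (s : A) ∉ (ProjectiveSpectrum.comap ψ hψ y).asHomogeneousIdeal := fun h => by
      have h1 : ψ (s : A) ∈ y.asHomogeneousIdeal := h
      rw [hψs] at h1
      exact (y.isPrime.mem_or_mem h1).elim (not_mem H y k) hn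
    refine ⟨HomogeneousLocalization.mk ⟨i, a, s, hs⟩, ?_⟩
    refine HomogeneousLocalization.val_injective _ ?_
    rw [HomogeneousLocalization.val_localRingHom, HomogeneousLocalization.val_mk,
      HomogeneousLocalization.val_mk]
    refine (GrTwist.locMap_mk ψ hψ y _ _).trans ?_
    rw [Localization.mk_eq_mk_iff, Localization.r_iff_exists]
    refine ⟨1, ?_⟩
    simp only [hψa, hψs, OneMemClass.coe_one, one_mul]
    ring

theorem isOpenImmersion_map : IsOpenImmersion (Proj.map ψ hψ) := by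
  rw [IsOpenImmersion.iff_isIso_stalkMap]
  refine ⟨isOpenEmbedding_comap H, fun p => ?_⟩
  haveI : IsIso (CommRingCat.ofHom (HomogeneousLocalization.localRingHom ψ
      (ProjectiveSpectrum.comap ψ hψ p).asHomogeneousIdeal.toIdeal p.asHomogeneousIdeal.toIdeal rfl)) :=
    (ConcreteCategory.isIso_iff_bijective _).2 (bijective_localRingHom H p)
  change IsIso ((Proj.sheafedSpaceMap ψ hψ).hom.stalkMap p)
  rw [← Proj.localRingHom_comp_stalkIso]
  infer_instance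

theorem bijective_comapApp_away (n : ℤ) (U : (Proj 𝒜).Opens)
    (hU : U.1 ⊆ Set.range (ProjectiveSpectrum.comap ψ hψ)) :
    Function.Bijective
      (GrTwist.comapApp ψ hψ n U (Proj.map ψ hψ ⁻¹ᵁ U) Set.Subset.rfl) := by
  have hφ := isOpenEmbedding_comap (hψ := hψ) H
  have hdiff : ∀ {i j i' j' : ℕ} {a a' s s' : A}, a ∈ 𝒜 i → s ∈ 𝒜 j → a' ∈ 𝒜 i' → s' ∈ 𝒜 j' →
      ((i : ℤ) = j + n ∨ a = 0) → ((i' : ℤ) = j' + n ∨ a' = 0) → ∃ m, s' * a - s * a' ∈ 𝒜 m := by
    intro i j i' j' a a' s s' ha hs ha' hs' hd hd'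
    rcases hd with hd | rfl
    · rcases hd' with hd' | rfl
      · refine ⟨j' + i, sub_mem (SetLike.mul_mem_graded hs' ha) ?_⟩
        rw [show j' + i = j + i' by omega]
        exact SetLike.mul_mem_graded hs ha'
      · exact ⟨j' + i, by simpa using SetLike.mul_mem_graded hs' ha⟩
    · exact ⟨j + i', by simpa using neg_mem (SetLike.mul_mem_graded hs ha')⟩
  constructor
  · intro s t hst
    refine Subtype.ext (funext fun x => Subtype.ext ?_)
    obtain ⟨y, hy⟩ := hU x.2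
    obtain ⟨x, hxU⟩ := x
    obtain rfl : ProjectiveSpectrum.comap ψ hψ y = x := hy
    obtain ⟨W, hW, iW, i, j, a, b, hb, hij, hfr⟩ := s.2 ⟨_, hxU⟩
    obtain ⟨W', hW', iW', i', j', a', b', hb', hij', hfr'⟩ := t.2 ⟨_, hxU⟩
    have h1 : (s.1 ⟨_, hxU⟩ : GrTwist.Loc 𝒜 (ProjectiveSpectrum.comap ψ hψ y)) = _ := hfr ⟨_, hW⟩
    have h2 : (t.1 ⟨_, hxU⟩ : GrTwist.Loc 𝒜 (ProjectiveSpectrum.comap ψ hψ y)) = _ := hfr' ⟨_, hW'⟩
    have h3 : GrTwist.locMap ψ hψ y (s.1 ⟨_, hxU⟩).1 = GrTwist.locMap ψ hψ y (t.1 ⟨_, hxU⟩).1 :=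
      congrArg (fun g => ((g.1 ⟨y, hxU⟩ : GrTwist.twistAt ℬ n y) : GrTwist.Loc ℬ y)) hst
    rw [h1, h2] at h3
    show (s.1 ⟨_, hxU⟩ : GrTwist.Loc 𝒜 (ProjectiveSpectrum.comap ψ hψ y)) = t.1 ⟨_, hxU⟩
    rw [h1, h2]
    obtain ⟨m, hm⟩ := hdiff a.2 b.2 a'.2 b'.2 hij hij'
    exact eq_of_frac_away H y (hb ⟨_, hW⟩) (hb' ⟨_, hW'⟩) hm h3
  · intro g'
    have hex : ∀ x : U, ∃ (W : (Proj 𝒜).Opens) (_ : x.1 ∈ W) (hWU : W ≤ U) (i j : ℕ) (a : 𝒜 i)
        (b : 𝒜 j) (_ : (i : ℤ) = j + n ∨ (a : A) = 0)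
        (hb : ∀ z : W, (b : A) ∉ z.1.asHomogeneousIdeal),
        ∀ (y : ProjectiveSpectrum ℬ) (hy : ProjectiveSpectrum.comap ψ hψ y ∈ W),
          (g'.1 ⟨y, hWU hy⟩ : GrTwist.Loc ℬ y) =
            GrTwist.locMap ψ hψ y (Localization.mk (a : A) ⟨b, hb ⟨_, hy⟩⟩) := by
      rintro ⟨x, hxU⟩
      obtain ⟨y, rfl⟩ := hU hxU
      obtain ⟨V, hV, iV, i, j, b, u, hu, hij, hfr⟩ := g'.2 ⟨y, hxU⟩
      obtain ⟨a, s, k, hψa, hψs⟩ := exists_frac_away H b.2 u.2
      have hd : (i : ℤ) = j + n ∨ ψ (a : A) = 0 := hij.imp_right fun h => by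
        rw [hψa]; simp [h]
      obtain ⟨l, hd'⟩ : ∃ l : ℕ, (i : ℤ) = j + n ∨ g ^ l * (a : A) = 0 := by
        rcases hd with hd | hd
        · exact ⟨0, Or.inl hd⟩
        · obtain ⟨l, hl⟩ := H.ker _ hd; exact ⟨l, Or.inr hl⟩
      have hal : g ^ l * (a : A) ∈ 𝒜 i := by
        simpa using SetLike.mul_mem_graded (SetLike.pow_mem_graded l H.mem) a.2
      have hsl : g ^ l * (s : A) ∈ 𝒜 j := by
        simpa using SetLike.mul_mem_graded (SetLike.pow_mem_graded l H.mem) s.2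
      let W : (Proj 𝒜).Opens := ⟨ProjectiveSpectrum.comap ψ hψ '' V.1, hφ.isOpenMap _ V.2⟩
      have hWV : ∀ z, ProjectiveSpectrum.comap ψ hψ z ∈ W → z ∈ V := fun z hz =>
        (hφ.injective.mem_set_image).1 (hz : _ ∈ _ '' V.1)
      refine ⟨W, ⟨y, hV, rfl⟩, ?_, i, j, ⟨_, hal⟩, ⟨_, hsl⟩, hd', ?_, ?_⟩
      · rintro _ ⟨z, hz, rfl⟩
        exact leOfHom iV hz
      · rintro ⟨w, z, hz, rfl⟩ hmem
        have h1 : ψ (g ^ l * (s : A)) ∈ z.asHomogeneousIdeal := hmem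
        rw [map_mul, map_pow, hψs, ← mul_assoc, ← pow_add] at h1
        exact (z.isPrime.mem_or_mem h1).elim (not_mem H z _) (hu ⟨z, hz⟩)
      · intro z hz
        refine (hfr ⟨z, hWV z hz⟩).trans ?_
        rw [GrTwist.locMap_mk, Localization.mk_eq_mk_iff, Localization.r_iff_exists]
        refine ⟨1, ?_⟩
        simp only [map_mul, map_pow, hψa, hψs, OneMemClass.coe_one, one_mul]
        ring
    choose W hxW hWU i j a b hij hb hval using hex
    have hmem : ∀ x : U, (Localization.mk (a x : A) ⟨b x, hb x ⟨_, hxW x⟩⟩ : GrTwist.Loc 𝒜 x.1) ∈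
        GrTwist.twistAt 𝒜 n x.1 := fun x => by
      rcases hij x with h | h
      · exact Submodule.subset_span ⟨_, _, a x, b x, _, h, rfl⟩
      · rw [h, Localization.mk_zero]; exact zero_mem _
    let s : ∀ x : U, GrTwist.twistAt 𝒜 n x.1 := fun x => ⟨_, hmem x⟩
    have hs : (GrTwist.isLocFracN 𝒜 n).pred s := by
      intro x
      refine ⟨W x, hxW x, homOfLE (hWU x), i x, j x, a x, b x, hb x, hij x, ?_⟩
      rintro ⟨z, hz⟩
      obtain ⟨y, hy⟩ := hU (hWU x hz)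
      obtain rfl : ProjectiveSpectrum.comap ψ hψ y = z := hy
      obtain ⟨m, hm⟩ := hdiff (a ⟨_, hWU x hz⟩).2 (b ⟨_, hWU x hz⟩).2 (a x).2 (b x).2 (hij _) (hij x)
      refine eq_of_frac_away H y _ _ hm ?_
      exact (hval _ y (hxW ⟨_, hWU x hz⟩)).symm.trans (hval x y hz)
    refine ⟨⟨s, hs⟩, Subtype.ext (funext fun y => Subtype.ext ?_)⟩
    exact (hval ⟨_, y.2⟩ y.1 (hxW ⟨_, y.2⟩)).symm

theorem isIso_adjunct_away (n : ℤ) :
    IsIso (((Scheme.Modules.pullbackPushforwardAdjunction (Proj.map ψ hψ)).homEquiv _ _).symm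
      (GrTwist.comap ψ hψ n)) := by
  haveI := isOpenImmersion_map (hψ := hψ) H
  haveI : IsIso ((Scheme.Modules.restrictFunctor (Proj.map ψ hψ)).map (GrTwist.comap ψ hψ n)) := by
    refine Scheme.Modules.Hom.isIso_iff_isIso_app.mpr fun V => ?_
    rw [ConcreteCategory.isIso_iff_bijective]
    exact bijective_comapApp_away H n (Proj.map ψ hψ ''ᵁ V) (Set.image_subset_range _ _)
  haveI : IsIso ((Scheme.Modules.pullback (Proj.map ψ hψ)).map (GrTwist.comap ψ hψ n)) :=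
    (NatIso.isIso_map_iff (Scheme.Modules.restrictFunctorIsoPullback (Proj.map ψ hψ)) _).1
      inferInstance
  rw [Adjunction.homEquiv_counit]
  infer_instance

end Groth.Agent.TwistAdj
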