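import Groth.Prelude.Def_GrTwist
import Groth.Agent.S9572

/-!
The pullback of `O(n)` along the morphism of `Proj` induced by an eventually bijective graded map.
-/

set_option autoImplicit false
set_option backward.isDefEq.respectTransparency false
set_option backward.isDefEq.respectTransparency.types false

universe u

open CategoryTheory CategoryTheory.Limits AlgebraicGeometry TopologicalSpace Opposite
open scoped HomogeneousIdeal

noncomputable section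

namespace Groth.Agent.TwistAdj

variable {R A : Type u} [CommRing R] [CommRing A] [Algebra R A] {𝒜 : ℕ → Submodule R A}
  [GradedAlgebra 𝒜] {B : Type u} [CommRing B] [Algebra R B] {ℬ : ℕ → Submodule R B}
  [GradedAlgebra ℬ] {ψ : 𝒜 →+*ᵍ ℬ}
  {hψ : HomogeneousIdeal.irrelevant ℬ ≤ (HomogeneousIdeal.irrelevant 𝒜).map ψ}
  {d₀ : ℕ} (hbij : ∀ d : ℕ, d₀ ≤ d → Set.BijOn ψ (𝒜 d) (ℬ d))

include hbij

theorem isIso_map : IsIso (Proj.map ψ hψ) := by
  obtain ⟨hdom, hr⟩ := Groth.Agent.S9572.result 𝒜 ℬ ψ d₀ hbij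
    ((PCone.dom ψ).ι ≫ Proj.map ψ hψ) (fun d f hd hf => by
      rw [← Category.assoc, PCone.chart, IsOpenImmersion.lift_fac]
      exact Proj.awayι_comp_map ψ hψ hd f hf)
  haveI : IsIso (PCone.dom ψ).ι := by
    exact isIso_of_isOpenImmersion_of_opensRange_eq_top _ (by rw [Scheme.Opens.opensRange_ι, hdom])
  exact IsIso.of_isIso_comp_left (PCone.dom ψ).ι (Proj.map ψ hψ)

/-- A homogeneous element killed by something outside `y` after applying `ψ` is killed by something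
outside the image of `y`. -/
theorem exists_annihilator (y : ProjectiveSpectrum ℬ) {m : ℕ} {c : A} (hc : c ∈ 𝒜 m) {t : B}
    (ht : t ∉ y.asHomogeneousIdeal) (h : t * ψ c = 0) :
    ∃ t' : A, t' ∉ (ProjectiveSpectrum.comap ψ hψ y).asHomogeneousIdeal ∧ t' * c = 0 := by
  classical
  obtain ⟨k, hk⟩ : ∃ k, ((DirectSum.decompose ℬ t k : ℬ k) : B) ∉ y.asHomogeneousIdeal := by
    by_contra! hh
    refine ht ?_
    rw [← DirectSum.sum_support_decompose ℬ t]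
    exact Ideal.sum_mem _ fun i _ => hh i
  have h1 : ((DirectSum.decompose ℬ t k : ℬ k) : B) * ψ c = 0 := by
    have := DirectSum.coe_decompose_mul_add_of_right_mem ℬ (a := t) (i := k) (ψ.2 hc)
    refine this.symm.trans ?_
    erw [h]
    simp
  obtain ⟨e, f, he, hf, hyf⟩ :=
    PConeLib.exists_homogeneous_not_mem (𝒜 := 𝒜) (ProjectiveSpectrum.comap ψ hψ y)
  have hyf' : ψ f ∉ y.asHomogeneousIdeal := hyf
  have hd : d₀ ≤ k + d₀ * e :=
    le_trans (Nat.le_mul_of_pos_right _ he) (Nat.le_add_left _ _)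
  obtain ⟨t', ht', hψt'⟩ := (hbij _ hd).2.2
    (show ((DirectSum.decompose ℬ t k : ℬ k) : B) * ψ f ^ d₀ ∈ ℬ (k + d₀ * e) from
      SetLike.mul_mem_graded (DirectSum.decompose ℬ t k).2 (SetLike.pow_mem_graded d₀ (ψ.2 hf)))
  refine ⟨t', fun ht'' => ?_, (hbij (k + d₀ * e + m) (le_trans hd (Nat.le_add_right _ _))).2.1
    (SetLike.mul_mem_graded ht' hc) (zero_mem _) ?_⟩
  · have h2 : ψ t' ∈ y.asHomogeneousIdeal := ht''
    rw [hψt'] at h2
    exact (y.isPrime.mem_or_mem h2).elim hk fun h3 => hyf' (y.isPrime.mem_of_pow_mem d₀ h3)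
  · rw [map_mul, map_zero, hψt', mul_right_comm, h1, zero_mul]

/-- Fractions of degree `n` with the same image are equal. -/
theorem eq_of_frac (n : ℤ) (y : ProjectiveSpectrum ℬ) {i j i' j' : ℕ} {a a' s s' : A}
    (ha : a ∈ 𝒜 i) (hs : s ∈ 𝒜 j) (ha' : a' ∈ 𝒜 i') (hs' : s' ∈ 𝒜 j')
    (hn : s ∉ (ProjectiveSpectrum.comap ψ hψ y).asHomogeneousIdeal)
    (hn' : s' ∉ (ProjectiveSpectrum.comap ψ hψ y).asHomogeneousIdeal)
    (hd : (i : ℤ) = j + n ∨ a = 0) (hd' : (i' : ℤ) = j' + n ∨ a' = 0)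
    (h : GrTwist.locMap ψ hψ y (Localization.mk a ⟨s, hn⟩) =
      GrTwist.locMap ψ hψ y (Localization.mk a' ⟨s', hn'⟩)) :
    (Localization.mk a ⟨s, hn⟩ : GrTwist.Loc 𝒜 (ProjectiveSpectrum.comap ψ hψ y)) =
      Localization.mk a' ⟨s', hn'⟩ := by
  rw [GrTwist.locMap_mk, GrTwist.locMap_mk, Localization.mk_eq_mk_iff, Localization.r_iff_exists] at h
  obtain ⟨t, ht⟩ := h
  obtain ⟨m, hm⟩ : ∃ m, s' * a - s * a' ∈ 𝒜 m := by
    rcases hd with hd | rfl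
    · rcases hd' with hd' | rfl
      · refine ⟨j' + i, sub_mem (SetLike.mul_mem_graded hs' ha) ?_⟩
        rw [show j' + i = j + i' by omega]
        exact SetLike.mul_mem_graded hs ha'
      · exact ⟨j' + i, by simpa using SetLike.mul_mem_graded hs' ha⟩
    · exact ⟨j + i', by simpa using neg_mem (SetLike.mul_mem_graded hs ha')⟩
  obtain ⟨t', ht', hz⟩ := exists_annihilator hbij y hm t.2
    (by simpa [mul_sub, sub_eq_zero] using ht)
  rw [Localization.mk_eq_mk_iff, Localization.r_iff_exists]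
  exact ⟨⟨t', ht'⟩, by simpa [mul_sub, sub_eq_zero] using hz⟩

/-- A fraction of degree `n` downstairs lifts. -/
theorem exists_frac (n : ℤ) {e : ℕ} {f : A} (he : 0 < e) (hf : f ∈ 𝒜 e) {i j : ℕ} {b u : B}
    (hb : b ∈ ℬ i) (hu : u ∈ ℬ j) (hd : (i : ℤ) = j + n ∨ b = 0) :
    ∃ (i' j' : ℕ) (a : 𝒜 i') (s : 𝒜 j'), ((i' : ℤ) = j' + n ∨ (a : A) = 0) ∧
      ψ a = b * ψ f ^ d₀ ∧ ψ s = u * ψ f ^ d₀ := by
  have hp : ψ f ^ d₀ ∈ ℬ (d₀ * e) := SetLike.pow_mem_graded d₀ (ψ.2 hf)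
  have hle : d₀ ≤ d₀ * e := Nat.le_mul_of_pos_right _ he
  obtain ⟨a, ha, hψa⟩ := (hbij _ (le_trans hle (Nat.le_add_left _ i))).2.2
    (SetLike.mul_mem_graded hb hp)
  obtain ⟨s, hs, hψs⟩ := (hbij _ (le_trans hle (Nat.le_add_left _ j))).2.2
    (SetLike.mul_mem_graded hu hp)
  refine ⟨_, _, ⟨a, ha⟩, ⟨s, hs⟩, ?_, hψa, hψs⟩
  rcases hd with hd | hd
  · exact Or.inl (by push_cast; omega)
  · exact Or.inr ((hbij _ (le_trans hle (Nat.le_add_left _ i))).2.1 ha (zero_mem _)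
      (by rw [hψa, hd, zero_mul, map_zero]))

theorem bijective_comapApp (n : ℤ) (U : (Proj 𝒜).Opens) :
    Function.Bijective
      (GrTwist.comapApp ψ hψ n U (Proj.map ψ hψ ⁻¹ᵁ U) Set.Subset.rfl) := by
  haveI := isIso_map (hψ := hψ) hbij
  let φ : Proj ℬ ≃ₜ Proj 𝒜 := Scheme.Hom.homeomorph (Proj.map ψ hψ)
  constructor
  · intro s t hst
    refine Subtype.ext (funext fun x => Subtype.ext ?_)
    obtain ⟨y, hy⟩ := φ.surjective x.1
    obtain ⟨x, hxU⟩ := x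
    obtain rfl : ProjectiveSpectrum.comap ψ hψ y = x := hy
    obtain ⟨W, hW, iW, i, j, a, b, hb, hij, hfr⟩ := s.2 ⟨_, hxU⟩
    obtain ⟨W', hW', iW', i', j', a', b', hb', hij', hfr'⟩ := t.2 ⟨_, hxU⟩
    have h1 : (s.1 ⟨_, hxU⟩ : GrTwist.Loc 𝒜 (ProjectiveSpectrum.comap ψ hψ y)) = _ := hfr ⟨_, hW⟩
    have h2 : (t.1 ⟨_, hxU⟩ : GrTwist.Loc 𝒜 (ProjectiveSpectrum.comap ψ hψ y)) = _ := hfr' ⟨_, hW'⟩
    have h3 : GrTwist.locMap ψ hψ y (s.1 ⟨_, hxU⟩).1 = GrTwist.locMap ψ hψ y (t.1 ⟨_, hxU⟩).1 :=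
      congrArg (fun g => ((g.1 ⟨y, hxU⟩ : GrTwist.twistAt ℬ n y) : GrTwist.Loc ℬ y)) hst
    rw [h1, h2] at h3
    show (s.1 ⟨_, hxU⟩ : GrTwist.Loc 𝒜 (ProjectiveSpectrum.comap ψ hψ y)) = t.1 ⟨_, hxU⟩
    rw [h1, h2]
    exact eq_of_frac hbij n y a.2 b.2 a'.2 b'.2 (hb ⟨_, hW⟩) (hb' ⟨_, hW'⟩) hij hij' h3
  · intro g
    have hex : ∀ x : U, ∃ (W : (Proj 𝒜).Opens) (_ : x.1 ∈ W) (hWU : W ≤ U) (i j : ℕ) (a : 𝒜 i)
        (b : 𝒜 j) (_ : (i : ℤ) = j + n ∨ (a : A) = 0)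
        (hb : ∀ z : W, (b : A) ∉ z.1.asHomogeneousIdeal),
        ∀ (y : ProjectiveSpectrum ℬ) (hy : ProjectiveSpectrum.comap ψ hψ y ∈ W),
          (g.1 ⟨y, hWU hy⟩ : GrTwist.Loc ℬ y) =
            GrTwist.locMap ψ hψ y (Localization.mk (a : A) ⟨b, hb ⟨_, hy⟩⟩) := by
      rintro ⟨x, hxU⟩
      obtain ⟨y, rfl⟩ := φ.surjective x
      obtain ⟨V, hV, iV, i, j, b, u, hu, hij, hfr⟩ := g.2 ⟨y, hxU⟩
      obtain ⟨e, f, he, hf, hyf⟩ :=
        PConeLib.exists_homogeneous_not_mem (𝒜 := 𝒜) (ProjectiveSpectrum.comap ψ hψ y)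
      obtain ⟨i', j', a, s, hd, hψa, hψs⟩ := exists_frac hbij n he hf b.2 u.2 hij
      let V' : (Proj ℬ).Opens := V ⊓ Proj.map ψ hψ ⁻¹ᵁ Proj.basicOpen 𝒜 f
      let W : (Proj 𝒜).Opens := ⟨φ '' V', φ.isOpenMap _ V'.2⟩
      have hWV : ∀ z, ProjectiveSpectrum.comap ψ hψ z ∈ W → z ∈ V' := fun z hz =>
        (φ.injective.mem_set_image).1 hz
      refine ⟨W, ⟨y, ⟨hV, hyf⟩, rfl⟩, ?_, i', j', a, s, hd, ?_, ?_⟩
      · rintro _ ⟨z, hz, rfl⟩
        exact leOfHom iV hz.1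
      · rintro ⟨w, z, hz, rfl⟩ hmem
        have h1 : ψ (s : A) ∈ z.asHomogeneousIdeal := hmem
        rw [hψs] at h1
        exact (z.isPrime.mem_or_mem h1).elim (hu ⟨z, hz.1⟩)
          fun h2 => hz.2 (z.isPrime.mem_of_pow_mem d₀ h2)
      · intro z hz
        refine (hfr ⟨z, (hWV z hz).1⟩).trans ?_
        rw [GrTwist.locMap_mk, Localization.mk_eq_mk_iff, Localization.r_iff_exists]
        refine ⟨1, ?_⟩
        simp only [hψa, hψs, OneMemClass.coe_one, one_mul]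
        ring
    choose W hxW hWU i j a b hij hb hval using hex
    have hmem : ∀ x : U, (Localization.mk (a x : A) ⟨b x, hb x ⟨_, hxW x⟩⟩ : GrTwist.Loc 𝒜 x.1) ∈
        GrTwist.twistAt 𝒜 n x.1 := fun x => by
      rcases hij x with h | h
      · exact Submodule.subset_span ⟨_, _, a x, b x, _, h, rfl⟩
      · rw [h, Localization.mk_zero]; exact zero_mem _
    let s : ∀ x : U, GrTwist.twistAt 𝒜 n x.1 := fun x => ⟨_, hmem x⟩
    have hs : (GrTwist.isLocFracN 𝒜 n).pred s := by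
      intro x
      refine ⟨W x, hxW x, homOfLE (hWU x), i x, j x, a x, b x, hb x, hij x, ?_⟩
      rintro ⟨z, hz⟩
      obtain ⟨y, hy⟩ := φ.surjective z
      obtain rfl : ProjectiveSpectrum.comap ψ hψ y = z := hy
      refine eq_of_frac hbij n y (a _).2 (b _).2 (a x).2 (b x).2 _ _ (hij _) (hij x) ?_
      exact (hval _ y (hxW ⟨_, hWU x hz⟩)).symm.trans (hval x y hz)
    refine ⟨⟨s, hs⟩, Subtype.ext (funext fun y => Subtype.ext ?_)⟩
    exact (hval ⟨_, y.2⟩ y.1 (hxW ⟨_, y.2⟩)).symm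

theorem isIso_adjunct (n : ℤ) :
    IsIso (((Scheme.Modules.pullbackPushforwardAdjunction (Proj.map ψ hψ)).homEquiv _ _).symm
      (GrTwist.comap ψ hψ n)) := by
  haveI := isIso_map (hψ := hψ) hbij
  haveI : IsIso (GrTwist.comap ψ hψ n) := by
    refine Scheme.Modules.Hom.isIso_iff_isIso_app.mpr fun U => ?_
    rw [ConcreteCategory.isIso_iff_bijective]
    exact bijective_comapApp hbij n U
  rw [Adjunction.homEquiv_counit]
  infer_instance

end Groth.Agent.TwistAdj
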